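import Groth.Agent.L20.LineStab.Matrix
import Groth.Agent.L11.HopfUnion
import Mathlib.LinearAlgebra.FreeModule.PID
import Mathlib.RingTheory.Bialgebra.Hom

/-!
# Chevalley's theorem over a principal ideal domain: flat closed subgroups are line stabilisers
-/

set_option autoImplicit false
set_option backward.isDefEq.respectTransparency false

universe u

open TensorProduct

noncomputable section

namespace Groth.L20.LineStab

theorem exists_corep_line {R : Type u} [CommRing R] [IsDomain R] [IsPrincipalIdealRing R]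
    {A : Type u} [CommRing A] [HopfAlgebra R A] [Module.Flat R A] [Algebra.FiniteType R A]
    {B : Type u} [CommRing B] [HopfAlgebra R B] [Module.Flat R B]
    (π : A →ₐc[R] B) :
    ∃ (d : ℕ) (hd : 0 < d) (a : Matrix (Fin d) (Fin d) A), IsCorep (R := R) a ∧
      (∃ u : A, u * a.det = 1 ∧
        Algebra.adjoin R (Set.range (fun p : Fin d × Fin d => a p.1 p.2) ∪ {u}) = ⊤) ∧
      RingHom.ker π = Ideal.span (Set.range (fun i : {i : Fin d // i ≠ ⟨0, hd⟩} => a i.1 ⟨0, hd⟩)) := by
  classical
  haveI : IsNoetherianRing A := Algebra.FiniteType.isNoetherianRing R A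
  obtain ⟨s₁, hs₁⟩ := (Algebra.FiniteType.out : (⊤ : Subalgebra R A).FG)
  obtain ⟨s₂, hs₂⟩ := IsNoetherian.noetherian (RingHom.ker π : Ideal A)
  obtain ⟨M, hMfg, hsub, hΔM⟩ := Groth.L11.HopfUnion.exists_fg_subcomodule (R := R) (s₁ ∪ s₂)
  haveI : Module.Finite R M := Module.Finite.iff_fg.2 hMfg
  haveI : Module.IsTorsionFree R A := inferInstance
  haveI : Module.IsTorsionFree R B := inferInstance
  let πl : A →ₗ[R] B := (π : A →ₐ[R] B).toLinearMap
  let f : M →ₗ[R] B := πl ∘ₗ M.subtype
  haveI : Module.Finite R (LinearMap.range f) := inferInstance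
  haveI : Module.Free R (LinearMap.range f) := inferInstance
  haveI : Module.Finite R (LinearMap.ker f) := Module.Finite.iff_fg.2 (IsNoetherian.noetherian _)
  haveI : Module.IsTorsionFree R M := inferInstance
  haveI : Module.IsTorsionFree R (LinearMap.ker f) := inferInstance
  haveI : Module.Free R M := inferInstance
  haveI : Module.Free R (LinearMap.ker f) := Module.Free.of_basis (Submodule.basisOfPid (Module.Free.chooseBasis R M) (LinearMap.ker f)).2
  obtain ⟨g, hg⟩ := Module.projective_lifting_property f.rangeRestrict LinearMap.id f.surjective_rangeRestrict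
  have hg' : ∀ y, f (g y) = (y : B) := fun y => congrArg Subtype.val (LinearMap.congr_fun hg y)
  let e : (LinearMap.ker f × LinearMap.range f) ≃ₗ[R] M := LinearEquiv.ofBijective
    ((LinearMap.ker f).subtype.coprod g) ⟨fun ⟨w, y⟩ ⟨w', y'⟩ h => by
      simp only [LinearMap.coprod_apply, Submodule.subtype_apply] at h
      have h2 := congrArg f h
      rw [map_add, map_add, w.2, w'.2, zero_add, zero_add, hg', hg'] at h2
      obtain rfl : y = y' := Subtype.ext h2
      exact Prod.ext (Subtype.ext (add_right_cancel h)) rfl, fun m => by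
      refine ⟨(⟨m - g (f.rangeRestrict m), ?_⟩, f.rangeRestrict m), ?_⟩
      · rw [LinearMap.mem_ker, map_sub, hg']; exact sub_self _
      · simp⟩
  let bW := Module.finBasis R (LinearMap.ker f)
  let bR := Module.finBasis R (LinearMap.range f)
  let b : Module.Basis (Fin (Module.finrank R (LinearMap.ker f)) ⊕ Fin (Module.finrank R (LinearMap.range f))) R M :=
    (bW.prod bR).map e
  have hbl : ∀ i, π (b (Sum.inl i) : A) = 0 := fun i => by
    have h : b (Sum.inl i) = (bW i : M) := by simp [b, e]
    rw [h]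
    exact LinearMap.mem_ker.1 (bW i).2
  have hbr : ∀ i, π (b (Sum.inr i) : A) = (bR i : B) := fun i => by
    have h : b (Sum.inr i) = g (bR i) := by simp [b, e]
    rw [h]
    exact hg' _
  have hind : ∀ {X : Type u} [AddCommGroup X] [Module R X] [Module.Flat R X],
      Function.Injective (M.subtype.rTensor X) := fun {X} _ _ _ =>
    Module.Flat.rTensor_preserves_injective_linearMap _ M.injective_subtype
  have hco : ∀ j, ∃ c : _ → A, Coalgebra.comul (R := R) (b j : A) = ∑ i, (b i : A) ⊗ₜ[R] c i := by
    intro j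
    obtain ⟨z, hz⟩ := hΔM _ (b j).2
    obtain ⟨w, rfl⟩ := (TensorProduct.equivFinsuppOfBasisLeft (N := A) b).symm.surjective z
    refine ⟨fun i => w i, ?_⟩
    rw [← hz, TensorProduct.equivFinsuppOfBasisLeft_symm_apply, Finsupp.sum_fintype _ _ (fun i => by simp), map_sum]
    rfl
  choose c' hc' using hco
  let c : Matrix _ _ A := Matrix.of fun i j => c' j i
  have hc : ∀ j, Coalgebra.comul (R := R) (b j : A) = ∑ i, (b i : A) ⊗ₜ[R] c i j := hc'
  have huniq : ∀ {X : Type u} [AddCommGroup X] [Module R X] [Module.Flat R X] (x y : _ → X),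
      ∑ i, (b i : A) ⊗ₜ[R] x i = ∑ i, (b i : A) ⊗ₜ[R] y i → x = y := by
    intro X _ _ _ x y h
    have h1 : (∑ i, b i ⊗ₜ[R] x i : M ⊗[R] X) = ∑ i, b i ⊗ₜ[R] y i := hind (by simpa [map_sum] using h)
    funext i
    have h2 := congrArg (fun z => TensorProduct.equivFinsuppOfBasisLeft b z i) h1
    rcases i with i | i <;> simpa [map_sum, Finsupp.single_apply, Finset.sum_ite_eq', Fintype.sum_sum_type] using h2
  have hcorep : IsCorep (R := R) c := by
    constructor
    · intro i j
      refine congrFun (huniq (fun i => Coalgebra.comul (R := R) (c i j)) (fun i => ∑ l, c i l ⊗ₜ[R] c l j) ?_) i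
      have h := Coalgebra.coassoc_apply (R := R) (b j : A)
      rw [hc, map_sum, map_sum, map_sum] at h
      simp only [LinearMap.rTensor_tmul, LinearMap.lTensor_tmul, hc, TensorProduct.sum_tmul, map_sum,
        TensorProduct.assoc_tmul] at h
      rw [← h, Finset.sum_comm]
      simp only [TensorProduct.tmul_sum]
    · intro i j
      have h := congrArg (fun z => z) (Coalgebra.lTensor_counit_comul (R := R) (b j : A))
      simp only [hc, map_sum, LinearMap.lTensor_tmul] at h
      have h2 := huniq (fun i => Coalgebra.counit (R := R) (c i j)) (fun i => if i = j then (1 : R) else 0) ?_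
      · exact congrFun h2 i
      · rw [h, Finset.sum_eq_single j (fun i _ hi => by simp [hi]) (by simp)]
        simp
  have hexp : ∀ j, (b j : A) = ∑ i, Coalgebra.counit (R := R) (b i : A) • c i j := by
    intro j
    have h := Coalgebra.rTensor_counit_comul (R := R) (b j : A)
    simp only [hc, map_sum, LinearMap.rTensor_tmul] at h
    have h2 := congrArg (TensorProduct.lid R A) h
    simp only [map_sum, TensorProduct.lid_tmul, one_smul] at h2
    exact h2.symm
  have hM : ∀ x ∈ M, ∃ y : _ → R, x = ∑ j, y j • (b j : A) := fun x hx =>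
    ⟨b.repr ⟨x, hx⟩, by
      have h := congrArg (M.subtype) (b.sum_repr ⟨x, hx⟩)
      simp only [map_sum, map_smul, Submodule.subtype_apply] at h
      exact h.symm⟩
  -- the block entries lie in the kernel
  have hker : ∀ s l, c (Sum.inr s) (Sum.inl l) ∈ RingHom.ker π := by
    intro s l
    have h := LinearMap.congr_fun π.toCoalgHom.map_comp_comul (b (Sum.inl l) : A)
    simp only [LinearMap.comp_apply] at h
    rw [hc, map_sum] at h
    simp only [TensorProduct.map_tmul] at h
    rw [Fintype.sum_sum_type] at h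
    have e1 : ∀ i, π.toCoalgHom.toLinearMap (b (Sum.inl i) : A) = 0 := hbl
    have e2 : ∀ i, π.toCoalgHom.toLinearMap (b (Sum.inr i) : A) = (bR i : B) := hbr
    simp only [e1, e2, TensorProduct.zero_tmul, Finset.sum_const_zero, zero_add, map_zero] at h
    have h1 : (∑ i, bR i ⊗ₜ[R] π.toCoalgHom.toLinearMap (c (Sum.inr i) (Sum.inl l)) : LinearMap.range f ⊗[R] B) = 0 :=
      Module.Flat.rTensor_preserves_injective_linearMap (M := B) (LinearMap.range f).subtype
        (LinearMap.range f).injective_subtype (by simpa [map_sum] using h)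
    have h2 := congrArg (fun z => TensorProduct.equivFinsuppOfBasisLeft bR z s) h1
    exact RingHom.mem_ker.2 (by simpa [map_sum, Finsupp.single_apply, Finset.sum_ite_eq'] using h2 : π.toCoalgHom (c (Sum.inr s) (Sum.inl l)) = 0)
  -- the line and the faithful block
  obtain ⟨a₁, ha₁, h₀, hne⟩ := exists_lineCorep hcorep
  let a' := Matrix.fromBlocks a₁ 0 0 c
  have ha' : IsCorep (R := R) a' := ha₁.fromBlocks hcorep
  let j₀ : ((Fin (Module.finrank R (LinearMap.ker f)) →
      Fin (Module.finrank R (LinearMap.ker f)) ⊕ Fin (Module.finrank R (LinearMap.range f))) ⊕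
      (Fin (Module.finrank R (LinearMap.ker f)) ⊕ Fin (Module.finrank R (LinearMap.range f)))) := Sum.inl I₀
  let d := Fintype.card ((Fin (Module.finrank R (LinearMap.ker f)) →
      Fin (Module.finrank R (LinearMap.ker f)) ⊕ Fin (Module.finrank R (LinearMap.range f))) ⊕
      (Fin (Module.finrank R (LinearMap.ker f)) ⊕ Fin (Module.finrank R (LinearMap.range f))))
  have hd : 0 < d := Fintype.card_pos_iff.2 ⟨j₀⟩
  let e₀ : Fin d ≃ _ := (Fintype.equivFin ((Fin (Module.finrank R (LinearMap.ker f)) →
      Fin (Module.finrank R (LinearMap.ker f)) ⊕ Fin (Module.finrank R (LinearMap.range f))) ⊕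
      (Fin (Module.finrank R (LinearMap.ker f)) ⊕ Fin (Module.finrank R (LinearMap.range f))))).symm
  let E : Fin d ≃ _ := e₀.trans (Equiv.swap (e₀ ⟨0, hd⟩) j₀)
  have hE : E ⟨0, hd⟩ = j₀ := Equiv.swap_apply_left _ _
  have ha := ha'.reindex E
  refine ⟨d, hd, a'.submatrix E E, ha, ?_, ?_⟩
  · obtain ⟨u, hu⟩ := ha.exists_det_inv
    refine ⟨u, hu, eq_top_iff.2 ?_⟩
    rw [← hs₁]
    refine Algebra.adjoin_le fun x hx => ?_
    obtain ⟨y, rfl⟩ := hM x (hsub (Finset.mem_coe.2 (Finset.mem_union_left _ hx)))
    refine Subalgebra.sum_mem _ fun j _ => Subalgebra.smul_mem _ ?_ _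
    rw [hexp]
    refine Subalgebra.sum_mem _ fun i _ => Subalgebra.smul_mem _ ?_ _
    refine Algebra.subset_adjoin (Set.mem_union_left _ ⟨(E.symm (Sum.inr i), E.symm (Sum.inr j)), ?_⟩)
    simp [a']
  · let J : Ideal A := Ideal.span (Set.range (fun i : {i : Fin d // i ≠ ⟨0, hd⟩} => (a'.submatrix E E) i.1 ⟨0, hd⟩))
    have hJ : ∀ I, I ≠ I₀ → a₁ I I₀ ∈ J := fun I hI => Ideal.subset_span ⟨⟨E.symm (Sum.inl I), fun h => hI (by
      have := congrArg E h
      rw [E.apply_symm_apply, hE] at this
      exact Sum.inl.inj this)⟩, by simp [a', hE, j₀]⟩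
    obtain ⟨hin, hout⟩ := ideal_eq ha₁ h₀ hne (RingHom.ker π) hker J hJ
    refine le_antisymm ?_ (Ideal.span_le.2 ?_)
    · rw [← hs₂]
      refine Ideal.span_le.2 fun x hx => ?_
      have hxk : π x = 0 := RingHom.mem_ker.1 (hs₂ ▸ Ideal.subset_span hx)
      let X : M := ⟨x, hsub (Finset.mem_coe.2 (Finset.mem_union_right _ hx))⟩
      let w : LinearMap.ker f := ⟨X, hxk⟩
      have e3 : (X : A) = ∑ l, bW.repr w l • (b (Sum.inl l) : A) := by
        have h : ∀ l, (b (Sum.inl l) : A) = ((bW l : M) : A) := fun l => by simp [b, e]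
        simp only [h]
        have h' := congrArg (M.subtype ∘ₗ (LinearMap.ker f).subtype) (bW.sum_repr w)
        simp only [map_sum, map_smul, LinearMap.comp_apply, Submodule.subtype_apply] at h'
        exact h'.symm
      show (X : A) ∈ J
      rw [e3]
      refine Submodule.sum_mem _ fun l _ => ?_
      rw [hexp, Fintype.sum_sum_type]
      refine Submodule.smul_of_tower_mem _ _ (Submodule.add_mem _ (Submodule.sum_mem _ fun i _ => ?_)
        (Submodule.sum_mem _ fun i _ => Submodule.smul_of_tower_mem _ _ (hout i l)))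
      have h0 : Coalgebra.counit (R := R) (b (Sum.inl i) : A) = 0 := by
        rw [← CoalgHomClass.counit_comp_apply π, hbl, map_zero]
      rw [h0, zero_smul]
      exact Submodule.zero_mem _
    · rintro _ ⟨⟨i, hi⟩, rfl⟩
      simp only [Matrix.submatrix_apply, hE, j₀]
      rcases hEi : E i with I | m
      · refine hin I fun h => hi (E.injective ?_)
        rw [hEi, hE, h]
      · simp [a']

end Groth.L20.LineStab
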