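import Mathlib.RingTheory.HopfAlgebra.Basic
import Mathlib.RingTheory.TensorProduct.Basic
import Mathlib.LinearAlgebra.Matrix.Adjugate
import Mathlib.LinearAlgebra.Matrix.NonsingularInverse
import Mathlib.LinearAlgebra.TensorProduct.Basis

/-!
# Matrix corepresentations: tensor powers, change of basis and stabilisers of Plücker lines
-/

set_option autoImplicit false

universe u v w

open TensorProduct

noncomputable section

namespace Groth.L20.LineStab

variable {R : Type u} [CommRing R] {A : Type v} [CommRing A] [HopfAlgebra R A]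

/-- a matrix corepresentation -/
structure IsCorep {n : Type w} [Fintype n] [DecidableEq n] (c : Matrix n n A) : Prop where
  comul_eq : ∀ i j, Coalgebra.comul (R := R) (c i j) = ∑ l, c i l ⊗ₜ[R] c l j
  counit_eq : ∀ i j, Coalgebra.counit (R := R) (c i j) = if i = j then 1 else 0

variable {n : Type w} [Fintype n] [DecidableEq n] {c : Matrix n n A}

theorem IsCorep.antipode_mul (h : IsCorep (R := R) c) :
    c.map (HopfAlgebra.antipode R (A := A)) * c = 1 := by
  ext i j
  have h1 := HopfAlgebra.mul_antipode_rTensor_comul_apply (R := R) (c i j)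
  rw [h.comul_eq, map_sum, map_sum] at h1
  simp only [LinearMap.rTensor_tmul, LinearMap.mul'_apply, h.counit_eq] at h1
  rw [Matrix.mul_apply, Matrix.one_apply]
  simp only [Matrix.map_apply, h1]
  split <;> simp

theorem IsCorep.exists_det_inv (h : IsCorep (R := R) c) : ∃ u : A, u * c.det = 1 :=
  ⟨(c.map (HopfAlgebra.antipode R (A := A))).det, by rw [← Matrix.det_mul, h.antipode_mul, Matrix.det_one]⟩

theorem IsCorep.reindex (h : IsCorep (R := R) c) {m : Type*} [Fintype m] [DecidableEq m] (e : m ≃ n) :
    IsCorep (R := R) (c.submatrix e e) where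
  comul_eq i j := by
    rw [Matrix.submatrix_apply, h.comul_eq]
    exact (e.sum_comp fun l => c (e i) l ⊗ₜ[R] c l (e j)).symm
  counit_eq i j := by simp [h.counit_eq, e.injective.eq_iff]

theorem IsCorep.fromBlocks (h : IsCorep (R := R) c) {m : Type*} [Fintype m] [DecidableEq m] {d : Matrix m m A}
    (h' : IsCorep (R := R) d) : IsCorep (R := R) (Matrix.fromBlocks c 0 0 d) where
  comul_eq i j := by
    rcases i with i | i <;> rcases j with j | j <;>
      simp [Fintype.sum_sum_type, h.comul_eq, h'.comul_eq]
  counit_eq i j := by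
    rcases i with i | i <;> rcases j with j | j <;> simp [h.counit_eq, h'.counit_eq]

theorem prod_tmul {ι : Type*} (s : Finset ι) (x y : ι → A) :
    ∏ i ∈ s, (x i ⊗ₜ[R] y i) = (∏ i ∈ s, x i) ⊗ₜ[R] (∏ i ∈ s, y i) := by
  classical
  induction s using Finset.induction_on with
  | empty => simp [Algebra.TensorProduct.one_def]
  | insert a s ha ih =>
    rw [Finset.prod_insert ha, Finset.prod_insert ha, Finset.prod_insert ha, ih,
      Algebra.TensorProduct.tmul_mul_tmul]

/-- the tensor power -/
def tpow (c : Matrix n n A) (r : ℕ) : Matrix (Fin r → n) (Fin r → n) A := fun I J => ∏ k, c (I k) (J k)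

theorem IsCorep.tpow (h : IsCorep (R := R) c) (r : ℕ) : IsCorep (R := R) (LineStab.tpow c r) where
  comul_eq I J := by
    show Bialgebra.comulAlgHom R A (∏ k, c (I k) (J k)) = _
    rw [map_prod]
    simp only [Bialgebra.comulAlgHom_apply, h.comul_eq]
    rw [Fintype.prod_sum]
    exact Finset.sum_congr rfl fun L _ => prod_tmul _ _ _
  counit_eq I J := by
    show Bialgebra.counitAlgHom R A (∏ k, c (I k) (J k)) = _
    rw [map_prod]
    simp only [Bialgebra.counitAlgHom_apply, h.counit_eq]
    split_ifs with hIJ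
    · simp [hIJ]
    · obtain ⟨k, hk⟩ := Function.ne_iff.1 hIJ
      exact Finset.prod_eq_zero (Finset.mem_univ k) (if_neg hk)

theorem IsCorep.conj (h : IsCorep (R := R) c) (P Q : Matrix n n R) (hPQ : P * Q = 1) (hQP : Q * P = 1) :
    IsCorep (R := R) (Q.map (algebraMap R A) * c * P.map (algebraMap R A)) := by
  let L : A →ₐ[R] A ⊗[R] A := Algebra.TensorProduct.includeLeft
  let L' : A →ₐ[R] A ⊗[R] A := Algebra.TensorProduct.includeRight
  let Δ := Bialgebra.comulAlgHom R A
  have hc : Δ.mapMatrix c = L.mapMatrix c * L'.mapMatrix c := by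
    ext i j
    show Coalgebra.comul (R := R) (c i j) = _
    rw [h.comul_eq, Matrix.mul_apply]
    simp [L, L']
  have hs : ∀ (f : A →ₐ[R] A ⊗[R] A) (X : Matrix n n R),
      f.mapMatrix (X.map (algebraMap R A)) = X.map (algebraMap R (A ⊗[R] A)) := fun f X => by
    ext i j; simp
  have hPQ' : P.map (algebraMap R (A ⊗[R] A)) * Q.map (algebraMap R (A ⊗[R] A)) = 1 := by
    rw [← Matrix.map_mul, hPQ, Matrix.map_one _ (map_zero _) (map_one _)]
  constructor
  · intro i j
    have key : Δ.mapMatrix (Q.map (algebraMap R A) * c * P.map (algebraMap R A)) =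
        L.mapMatrix (Q.map (algebraMap R A) * c * P.map (algebraMap R A)) *
          L'.mapMatrix (Q.map (algebraMap R A) * c * P.map (algebraMap R A)) := by
      simp only [map_mul, hs, hc]
      simp only [mul_assoc]
      rw [← mul_assoc (P.map _) (Q.map _) _, hPQ', one_mul]
    have h2 := congrArg (fun M => M i j) key
    refine h2.trans ?_
    rw [Matrix.mul_apply]
    simp [L, L']
  · intro i j
    have key : (Bialgebra.counitAlgHom R A).mapMatrix (Q.map (algebraMap R A) * c * P.map (algebraMap R A)) = 1 := by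
      have e1 : ∀ X : Matrix n n R, (Bialgebra.counitAlgHom R A).mapMatrix (X.map (algebraMap R A)) = X := fun X => by
        ext a b; simp
      have e2 : (Bialgebra.counitAlgHom R A).mapMatrix c = 1 := by
        ext a b; simp [h.counit_eq, Matrix.one_apply]
      rw [map_mul, map_mul, e1, e1, e2, mul_one, hQP]
    simpa [Matrix.one_apply] using congrArg (fun M => M i j) key

section Plucker

variable {r q : ℕ}

local notation "N" => (Fin r ⊕ Fin q)

/-- coordinates of the Plücker vector -/
def v (S : Type*) [CommRing S] (I : Fin r → N) : S :=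
  Matrix.det (Matrix.of fun k l : Fin r => if I k = Sum.inl l then (1 : S) else 0)

/-- the distinguished index -/
def I₀ : Fin r → N := Sum.inl

theorem v_I₀ (S : Type*) [CommRing S] : v S (I₀ : Fin r → N) = 1 := by
  rw [v, show (Matrix.of fun k l : Fin r => if (I₀ : Fin r → N) k = Sum.inl l then (1 : S) else 0) = 1 by
    ext k l; simp [I₀, Matrix.one_apply], Matrix.det_one]

theorem map_v {S T : Type*} [CommRing S] [CommRing T] (f : S →+* T) (I : Fin r → N) : f (v S I) = v T I := by
  rw [v, RingHom.map_det]
  congr 1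
  ext k l
  simp only [RingHom.mapMatrix_apply, Matrix.map_apply, Matrix.of_apply]
  split <;> simp

/-- rows of the left columns -/
def minor {S : Type*} [CommRing S] (c : Matrix N N S) (I : Fin r → N) : S :=
  Matrix.det (Matrix.of fun k l : Fin r => c (I k) (Sum.inl l))

theorem sum_tpow_mul_v {S : Type*} [CommRing S] (c : Matrix N N S) (I : Fin r → N) :
    ∑ J : Fin r → N, (∏ k, c (I k) (J k)) * v S J = minor c I := by
  let e : N → (Fin r → S) := fun m l => if m = Sum.inl l then 1 else 0
  have hrow : (Matrix.of fun k l : Fin r => c (I k) (Sum.inl l)) = Matrix.of fun k => ∑ m, c (I k) m • e m := by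
    ext k l
    simp [e, Finset.sum_apply]
  rw [minor, hrow]
  show _ = Matrix.detRowAlternating.toMultilinearMap fun k => ∑ m, c (I k) m • e m
  rw [MultilinearMap.map_sum]
  refine Finset.sum_congr rfl fun J _ => ?_
  rw [MultilinearMap.map_smul_univ, smul_eq_mul]
  rfl

/-- vanishing of the lower left block from proportionality of the minors -/
theorem block_eq_zero {S : Type*} [CommRing S] (c : Matrix N N S) (hu : IsUnit (minor c (I₀ : Fin r → N)))
    (h : ∀ I : Fin r → N, minor c I = v S I * minor c I₀) (s : Fin q) (l : Fin r) :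
    c (Sum.inr s) (Sum.inl l) = 0 := by
  let T : Matrix (Fin r) (Fin r) S := Matrix.of fun k m => c (Sum.inl k) (Sum.inl m)
  let x : Fin r → S := fun m => c (Sum.inr s) (Sum.inl m)
  have hx : ∀ k, Matrix.cramer T.transpose x k = 0 := by
    intro k
    let I : Fin r → N := Function.update I₀ k (Sum.inr s)
    have h1 : v S I = 0 := Matrix.det_eq_zero_of_row_eq_zero k fun m => by simp [I]
    have h2 := h I
    rw [h1, zero_mul] at h2
    rw [Matrix.cramer_apply, Matrix.updateCol_transpose, Matrix.det_transpose, ← h2]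
    refine congrArg Matrix.det (Matrix.ext fun a m => ?_)
    by_cases ha : a = k
    · subst ha; simp [I, x]
    · simp [I, T, I₀, Matrix.updateRow_ne ha, Function.update_of_ne ha]
  have h3 := Matrix.mulVec_cramer T.transpose x
  rw [show Matrix.cramer T.transpose x = 0 from funext hx, Matrix.mulVec_zero, Matrix.det_transpose] at h3
  have h4 := congrFun h3 l
  simp only [Pi.zero_apply, Pi.smul_apply, smul_eq_mul] at h4
  exact (IsUnit.mul_right_eq_zero (show IsUnit T.det from hu)).1 h4.symm

/-- proportionality of the minors from vanishing of the lower left block -/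
theorem minor_eq {S : Type*} [CommRing S] (c : Matrix N N S) (h : ∀ s l, c (Sum.inr s) (Sum.inl l) = 0)
    (I : Fin r → N) : minor c I = v S I * minor c I₀ := by
  rw [minor, v, minor, ← Matrix.det_mul]
  congr 1
  ext k l
  rw [Matrix.mul_apply]
  rcases hI : I k with m | m
  · simp [hI, I₀]
  · simp [hI, h]

/-- the elementary change of basis -/
def shear (S : Type*) [CommRing S] : Matrix (Fin r → N) (Fin r → N) S :=
  Matrix.of fun I J => if J = I₀ then v S I - (if I = I₀ then 1 else 0) else 0

theorem shear_sq (S : Type*) [CommRing S] : shear (r := r) (q := q) S * shear S = 0 := by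
  ext I J
  rw [Matrix.mul_apply, Matrix.zero_apply]
  refine Finset.sum_eq_zero fun L _ => ?_
  simp only [shear, Matrix.of_apply]
  by_cases hL : L = I₀
  · subst hL; simp [v_I₀]
  · simp [hL]

theorem exists_lineCorep {c : Matrix N N A} (h : IsCorep (R := R) c) :
    ∃ a : Matrix (Fin r → N) (Fin r → N) A, IsCorep (R := R) a ∧ a I₀ I₀ = minor c I₀ ∧
      ∀ I, I ≠ I₀ → a I I₀ = minor c I - v A I * minor c I₀ := by
  let M := shear (r := r) (q := q) R
  have hPQ : (1 + M) * (1 - M) = 1 := by
    rw [mul_sub, mul_one, add_mul, one_mul, shear_sq, add_zero, add_sub_cancel_right]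
  have hQP : (1 - M) * (1 + M) = 1 := by
    rw [sub_mul, one_mul, mul_add, mul_one, shear_sq, add_zero, add_sub_cancel_right]
  refine ⟨_, (h.tpow r).conj (1 + M) (1 - M) hPQ hQP, ?_⟩
  have hval : ∀ I, (((1 - M).map (algebraMap R A)) * tpow c r * (1 + M).map (algebraMap R A)) I I₀ =
      minor c I - (v A I - if I = I₀ then 1 else 0) * minor c I₀ := by
    intro I
    rw [mul_assoc, Matrix.mul_apply]
    have hcol : ∀ L, (tpow c r * (1 + M).map (algebraMap R A)) L I₀ = minor c L := fun L => by
      rw [Matrix.mul_apply, ← sum_tpow_mul_v c L]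
      refine Finset.sum_congr rfl fun J _ => ?_
      simp only [M, shear, Matrix.map_apply, Matrix.add_apply, Matrix.of_apply, if_true, Matrix.one_apply,
        map_add, map_sub, map_v]
      split_ifs <;> simp [tpow]
    simp only [hcol]
    simp only [M, shear, Matrix.map_apply, Matrix.sub_apply, Matrix.of_apply, Matrix.one_apply, map_sub, sub_mul,
      Finset.sum_sub_distrib]
    simp only [apply_ite (algebraMap R A), map_one, map_zero, map_sub, map_v, ite_mul, one_mul, zero_mul,
      Finset.sum_ite_eq, Finset.sum_ite_eq', Finset.mem_univ, if_true, sub_mul]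
  refine ⟨?_, fun I hI => ?_⟩
  · rw [hval]; simp [v_I₀]
  · rw [hval, if_neg hI, sub_zero]

/-- stabilisers of Plücker lines -/
theorem ideal_eq {c : Matrix N N A} {a : Matrix (Fin r → N) (Fin r → N) A} (ha : IsCorep (R := R) a)
    (h₀ : a I₀ I₀ = minor c I₀) (hne : ∀ I, I ≠ I₀ → a I I₀ = minor c I - v A I * minor c I₀)
    (K : Ideal A) (hK : ∀ s l, c (Sum.inr s) (Sum.inl l) ∈ K) (J : Ideal A)
    (hJ : ∀ I, I ≠ I₀ → a I I₀ ∈ J) :
    (∀ I, I ≠ I₀ → a I I₀ ∈ K) ∧ (∀ s l, c (Sum.inr s) (Sum.inl l) ∈ J) := by
  have hmap : ∀ {S : Type v} [CommRing S] (f : A →+* S) I, f (minor c I) = minor (c.map f) I := by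
    intro S _ f I
    rw [minor, RingHom.map_det]
    rfl
  refine ⟨fun I hI => Ideal.Quotient.eq_zero_iff_mem.1 ?_, fun s l => Ideal.Quotient.eq_zero_iff_mem.1 ?_⟩
  · rw [hne I hI, map_sub, map_mul, map_v, hmap, hmap, minor_eq (c.map (Ideal.Quotient.mk K))
      (fun s l => Ideal.Quotient.eq_zero_iff_mem.2 (hK s l)), sub_self]
  · let f := Ideal.Quotient.mk J
    refine block_eq_zero (c.map f) ?_ (fun I => ?_) s l
    · have e := congrArg f (congrFun (congrFun ha.antipode_mul I₀) I₀)
      rw [Matrix.mul_apply, map_sum, Finset.sum_eq_single I₀ (fun I _ hI => by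
          rw [map_mul, show f (a I I₀) = 0 from Ideal.Quotient.eq_zero_iff_mem.2 (hJ I hI), mul_zero]) (by simp),
        map_mul, h₀, hmap, Matrix.one_apply_eq, map_one] at e
      exact IsUnit.of_mul_eq_one_right _ e
    · by_cases hI : I = I₀
      · subst hI; rw [v_I₀, one_mul]
      · have e : f (a I I₀) = 0 := Ideal.Quotient.eq_zero_iff_mem.2 (hJ I hI)
        rw [hne I hI, map_sub, map_mul, map_v, hmap, hmap, sub_eq_zero] at e
        exact e

end Plucker

end Groth.L20.LineStab
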